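import Cfsg.Agent.Lib.Compute.Mathieu.Groups
import Cfsg.Agent.Lib.Fusion.Mathieu.Identify

/-!
Counting elements of given order in certified groups.
-/

set_option autoImplicit false

namespace Cfsg.Agent.Lib.M11Order

open Cfsg.Agent.Lib.Compute Cfsg.Agent.Lib.Compute.Mathieu

/-- The order of a coded element, found by trying the exponents up to a bound (`0` on failure). -/
noncomputable def ordAux (O : Ops) (x : ℕ) : ℕ → ℕ → ℕ → ℕ
  | 0, _, _ => 0
  | fuel + 1, acc, k =>
    forceNat acc fun acc' =>
      if Nat.beq acc' O.one then k else ordAux O x fuel (O.mul acc' x) (k + 1)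

/-- The order of a coded element, if at most eleven. -/
noncomputable def ordN (O : Ops) (x : ℕ) : ℕ := ordAux O x 11 x 1

variable {G : Type*} [Group G] {O : Ops} (C : Coding G O)

theorem ordAux_spec (g : G) : ∀ (fuel k m : ℕ), 0 < k → (∀ j, 0 < j → j < k → g ^ j ≠ 1) →
    ordAux O (C.enc g) fuel (C.enc (g ^ k)) k = m → 0 < m → orderOf g = m := by
  intro fuel
  induction fuel with
  | zero => intro k m _ _ h hm; simp [ordAux] at h; omega
  | succ n ih =>
    intro k m hk hj h hm
    rw [ordAux, forceNat_eq] at h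
    by_cases h1 : Nat.beq (C.enc (g ^ k)) O.one = true
    · rw [if_pos h1] at h
      subst h
      rw [Nat.beq_eq, ← C.one_enc] at h1
      exact (orderOf_eq_iff hk).mpr ⟨C.inj h1, fun j hlt hpos => hj j hpos hlt⟩
    · rw [if_neg h1, C.mul_enc, ← pow_succ] at h
      refine ih (k + 1) m (Nat.succ_pos k) (fun j hpos hlt => ?_) h hm
      rcases Nat.lt_or_ge j k with hlt' | hge
      · exact hj j hpos hlt'
      · have : j = k := by omega
        subst this
        intro he
        apply h1
        rw [Nat.beq_eq, he, C.one_enc]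

theorem ordN_spec (g : G) (h : 0 < ordN O (C.enc g)) : orderOf g = ordN O (C.enc g) := by
  refine ordAux_spec C g 11 1 _ Nat.one_pos (fun j h1 h2 => by omega) ?_ h
  rw [pow_one]; rfl

theorem card_orderOf [Finite G] {S : List (ℕ × ℕ)} {L : List Lvl} (hS : GensOK C S)
    (hL : chainCheck O S L = true)
    (hpos : (elems O L).all (fun x => !(Nat.beq (ordN O x) 0)) = true) (n : ℕ) :
    Nat.card {g : genGroup C S // orderOf g = n} =
      (elems O L).countP (fun x => Nat.beq (ordN O x) n) := by
  classical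
  set E := elems O L with hE
  let enc : genGroup C S → ℕ := fun g => C.enc g.1
  have henc : Function.Injective enc := fun a b e => Subtype.ext (C.inj e)
  have hEmem : ∀ g : genGroup C S, enc g ∈ E := fun g => enc_mem_elems C hS hL g.2
  have hEsurj : ∀ x ∈ E, ∃ g : genGroup C S, enc g = x := fun x hx => by
    obtain ⟨g, hg, he⟩ := exists_of_mem_elems C hS hL hx
    exact ⟨⟨g, hg⟩, he⟩
  have hlen : ∀ M : List Lvl, (elems O M).length = chainSize M := by
    intro M
    induction M with
    | nil => rfl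
    | cons l ls ih => simp [elems, chainSize, List.length_flatten, Function.comp_def, ih]
  have hnd : E.Nodup := by
    suffices hcardE : E.toFinset.card = E.length by
      rw [List.card_toFinset] at hcardE
      exact List.dedup_eq_self.mp ((List.dedup_sublist E).eq_of_length hcardE)
    rw [hE, hlen, ← card_genGroup C hS hL, ← Nat.card_eq_finsetCard]
    refine (Nat.card_congr (Equiv.ofBijective (fun g => (⟨enc g, List.mem_toFinset.mpr (hEmem g)⟩ :
      {x // x ∈ E.toFinset})) ⟨fun a b e => henc (congrArg Subtype.val e), fun x => ?_⟩)).symm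
    obtain ⟨g, hg⟩ := hEsurj x.1 (List.mem_toFinset.mp x.2)
    exact ⟨g, Subtype.ext hg⟩
  have hord : ∀ g : genGroup C S, orderOf g = ordN O (enc g) := by
    intro g
    rw [← Subgroup.orderOf_coe]
    refine ordN_spec C g.1 (Nat.pos_of_ne_zero fun h0 => ?_)
    have := (List.all_eq_true.mp hpos) _ (hEmem g)
    rw [h0] at this
    exact absurd this (by decide)
  have hq : (elems O L).countP (fun x => Nat.beq (ordN O x) n) =
      ((E.filter fun x => Nat.beq (ordN O x) n).toFinset).card := by
    rw [List.countP_eq_length_filter, List.toFinset_card_of_nodup (hnd.filter _)]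
  rw [hq, ← Nat.card_eq_finsetCard]
  refine Nat.card_congr (Equiv.ofBijective (fun g => ⟨enc g.1, ?_⟩) ⟨?_, ?_⟩)
  · simp only [List.mem_toFinset, List.mem_filter, Nat.beq_eq]
    exact ⟨hEmem g.1, (hord g.1).symm.trans g.2⟩
  · intro a b e
    exact Subtype.ext (henc (congrArg Subtype.val e))
  · rintro ⟨x, hx⟩
    simp only [List.mem_toFinset, List.mem_filter, Nat.beq_eq] at hx
    obtain ⟨g, rfl⟩ := hEsurj x hx.1
    exact ⟨⟨g, (hord g).trans hx.2⟩, rfl⟩

theorem m11_counts :
    ([2, 3, 4, 5, 6, 8, 11].map fun n =>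
      (elems (permOps 8 24) m11Chain).countP (fun x => Nat.beq (ordN (permOps 8 24) x) n)) =
      [165, 440, 990, 1584, 1320, 1980, 1440] := by
  decide +kernel

theorem m11_counts_other :
    ((elems (permOps 8 24) m11Chain).all fun x =>
      [1, 2, 3, 4, 5, 6, 8, 11].any fun n => Nat.beq (ordN (permOps 8 24) x) n) = true := by
  decide +kernel

theorem m11_ordN_pos :
    (elems (permOps 8 24) m11Chain).all (fun x => !(Nat.beq (ordN (permOps 8 24) x) 0)) = true := by
  refine List.all_eq_true.mpr fun x hx => ?_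
  obtain ⟨n, hn, hxn⟩ := List.any_eq_true.mp (List.all_eq_true.mp m11_counts_other x hx)
  rw [Nat.beq_eq] at hxn
  simp only [Bool.not_eq_true', Bool.eq_false_iff, ne_eq, Nat.beq_eq, hxn]
  rintro rfl
  simp at hn

open Cfsg.Agent.Lib.Fusion.Mathieu in
/-- The non-zero counts of elements of given order in the smallest Mathieu group. -/
theorem m11_card_mem {c : ℕ} (hc : 0 < c)
    (h : ∃ n : ℕ, c = Nat.card {g : ↥Cfsg.Spor.M11 // orderOf g = n}) :
    c ∈ [1, 165, 440, 990, 1584, 1320, 1980, 1440] := by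
  obtain ⟨n, rfl⟩ := h
  rw [Nat.card_congr (Equiv.subtypeEquiv (MulEquiv.subgroupCongr eq_m11).toEquiv
    (p := fun g : ↥Cfsg.Spor.M11 => orderOf g = n) (q := fun g => orderOf g = n)
    fun g => by rw [MulEquiv.toEquiv_eq_coe, MulEquiv.coe_toEquiv, MulEquiv.orderOf_eq])] at hc ⊢
  have hS : GensOK ptCoding m11Gens := (gensOK_of_check pairsInM24_m11).1
  rw [card_orderOf ptCoding hS m11Chain_ok m11_ordN_pos] at hc ⊢
  obtain ⟨x, hx, hxn⟩ := List.countP_pos_iff.mp hc
  rw [Nat.beq_eq] at hxn
  obtain ⟨m, hm, hxm⟩ := List.any_eq_true.mp (List.all_eq_true.mp m11_counts_other x hx)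
  rw [Nat.beq_eq, hxn] at hxm
  subst hxm
  rcases List.mem_cons.mp hm with rfl | hm
  · refine List.mem_cons.mpr (Or.inl ?_)
    rw [← card_orderOf ptCoding hS m11Chain_ok m11_ordN_pos]
    rw [Nat.card_eq_one_iff_unique]
    exact ⟨⟨fun a b => Subtype.ext ((orderOf_eq_one_iff.mp a.2).trans (orderOf_eq_one_iff.mp b.2).symm)⟩,
      ⟨1, orderOf_one⟩⟩
  · refine List.mem_cons_of_mem _ ?_
    rw [← m11_counts]
    exact List.mem_map_of_mem hm

end Cfsg.Agent.Lib.M11Order
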