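import Mathlib
import Cfsg.Agent.Lib.SmallGroups.Basic
import Cfsg.Agent.Lib.SmallGroups.PrimeSylow

/-!
A group of order 7920 with 144 Sylow 11-subgroups and 1584 elements of order 5 is simple.
-/

set_option autoImplicit false
set_option linter.style.haveILetI false

namespace Cfsg.Agent.Lib.M11Order

open Subgroup Cfsg.Agent.Lib.SmallGroups

universe u

variable {G : Type u} [Group G] [Finite G]

/-- An element of prime order normalizing a subgroup without commuting with any of its non-trivial
elements: the order of the subgroup is one modulo the prime. -/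
theorem free_card {p : ℕ} [hp : Fact p.Prime] (H : Subgroup G) {y : G} (hy : orderOf y = p)
    (hn : ∀ h, h ∈ H ↔ y * h * y⁻¹ ∈ H) (hfree : ∀ h ∈ H, y * h = h * y → h = 1) :
    Nat.card H % p = 1 := by
  classical
  haveI := Fintype.ofFinite H
  let σ : Equiv.Perm H := (MulAut.conj y).toEquiv.subtypeEquiv hn
  have hpow : ∀ n : ℕ, ∀ a : H, (((σ ^ n) a : H) : G) = y ^ n * a * (y ^ n)⁻¹ := by
    intro n
    induction n with
    | zero => simp
    | succ n ih =>
      intro a
      rw [pow_succ', Equiv.Perm.mul_apply]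
      show y * (((σ ^ n) a : H) : G) * y⁻¹ = _
      rw [ih, pow_succ']
      group
  have hσ : σ ^ p ^ 1 = 1 := by
    ext a
    rw [hpow, pow_one, ← hy, pow_orderOf_eq_one, one_mul, inv_one, mul_one, Equiv.Perm.one_apply]
  have hmod := Equiv.Perm.card_compl_support_modEq (p := p) (n := 1) hσ
  rw [← Nat.card_eq_fintype_card (α := H)] at hmod
  have h1 : σ.supportᶜ = {1} := by
    ext a
    rw [Finset.mem_compl, Equiv.Perm.notMem_support, Finset.mem_singleton, Subtype.ext_iff]
    show y * (a : G) * y⁻¹ = a ↔ _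
    rw [mul_inv_eq_iff_eq_mul]
    exact ⟨fun h => Subtype.ext (hfree a a.2 h), fun h => by subst h; simp⟩
  rw [h1, Finset.card_singleton] at hmod
  rw [← hmod, Nat.mod_eq_of_lt hp.out.one_lt]

/-- A normal subgroup contains the elements whose order is prime to its index. -/
theorem mem_of_coprime_index {N : Subgroup G} [N.Normal] {g : G}
    (h : (orderOf g).Coprime N.index) : g ∈ N := by
  rw [← QuotientGroup.eq_one_iff, ← orderOf_eq_one_iff]
  refine Nat.eq_one_of_dvd_coprimes h (orderOf_map_dvd (QuotientGroup.mk' N) g) ?_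
  rw [Subgroup.index]
  exact orderOf_dvd_natCard _

variable (hG : Nat.card G = 7920) (h11 : Nat.card {g : G // orderOf g = 11} = 1440)
  (h5 : Nat.card {g : G // orderOf g = 5} = 1584)

include hG h11 in
theorem card_sylow_eleven : Nat.card (Sylow 11 G) = 144 := by
  haveI : Fact (Nat.Prime 11) := ⟨by norm_num⟩
  have hP : Nat.card ((default : Sylow 11 G) : Subgroup G) = 11 := by
    rw [card_sylow_eq default (k := 1) (m := 720) (by rw [hG]; norm_num) (by norm_num), pow_one]
  have := card_orderOf_eq_prime default hP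
  rw [h11] at this
  omega

include hG h11 in
theorem card_normalizer_eleven {y : G} (hy : orderOf y = 11) :
    Nat.card (normalizer (zpowers y : Set G)) = 55 := by
  haveI : Fact (Nat.Prime 11) := ⟨by norm_num⟩
  obtain ⟨Q, hQ, -⟩ := existsUnique_sylow_of_orderOf (default : Sylow 11 G)
    (by rw [card_sylow_eq default (k := 1) (m := 720) (by rw [hG]; norm_num) (by norm_num),
      pow_one]) hy
  have := card_normalizer_sylow_mul Q
  rw [hQ, card_sylow_eleven hG h11, hG] at this
  omega

include hG h11 h5 in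
theorem eq_bot_of_not_dvd {K : Subgroup G} [K.Normal] (h : ¬ 11 ∣ Nat.card K) : K = ⊥ := by
  haveI : Fact (Nat.Prime 11) := ⟨by norm_num⟩
  have hdvd : Nat.card K ∣ 7920 := hG ▸ K.card_subgroup_dvd_card
  have hmul : Nat.card K * K.index = 7920 := hG ▸ K.card_mul_index
  have hd720 : Nat.card K ∣ 720 := by
    refine Nat.Coprime.dvd_of_dvd_mul_right ?_ (show Nat.card K ∣ 720 * 11 from hdvd)
    exact ((Nat.Prime.coprime_iff_not_dvd (by norm_num)).2 h).symm
  have h5' : ¬ 5 ∣ Nat.card K := by
    intro h5K
    have hidx : ¬ 5 ∣ K.index := fun hi => by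
      have := Nat.mul_dvd_mul h5K hi
      rw [hmul] at this
      norm_num at this
    have hle : Nat.card {g : G // orderOf g = 5} ≤ Nat.card K :=
      Nat.card_le_card_of_injective (fun g => (⟨g.1, mem_of_coprime_index (by
        rw [g.2]; exact (Nat.Prime.coprime_iff_not_dvd (by norm_num)).2 hidx)⟩ : K))
        fun a b e => Subtype.ext (congrArg (fun z : K => (z : G)) e)
    have := Nat.le_of_dvd (by norm_num) hd720
    omega
  have hd144 : Nat.card K ∣ 144 := by
    refine Nat.Coprime.dvd_of_dvd_mul_right ?_ (show Nat.card K ∣ 144 * 5 from hd720)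
    exact ((Nat.Prime.coprime_iff_not_dvd (by norm_num)).2 h5').symm
  -- elements of order eleven act freely on `K`
  have hfree : ∀ y : G, orderOf y = 11 → ∀ k ∈ K, y * k = k * y → k = 1 := by
    intro y hy k hk hc
    have hkN : k ∈ normalizer (zpowers y : Set G) := by
      refine centralizer_le_normalizer _ ?_
      rw [mem_centralizer_iff]
      intro m hm
      obtain ⟨i, rfl⟩ := Subgroup.mem_zpowers_iff.mp hm
      exact ((Commute.zpow_left hc i).eq)
    have hok : orderOf k ∣ Nat.card K := by
      simpa using orderOf_dvd_natCard (⟨k, hk⟩ : K)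
    rw [← orderOf_eq_one_iff]
    refine Nat.eq_one_of_dvd_coprimes (show Nat.Coprime 55 144 by norm_num) ?_
      (hok.trans hd144)
    rw [← card_normalizer_eleven hG h11 hy]
    simpa using orderOf_dvd_natCard (⟨k, hkN⟩ : normalizer (zpowers y : Set G))
  obtain ⟨y, hy⟩ := exists_prime_orderOf_dvd_card' (G := G) 11 (by rw [hG]; norm_num)
  have hK1 := free_card K hy (fun a => ⟨fun ha => Subgroup.Normal.conj_mem ‹_› a ha y, fun ha => by
    simpa [mul_assoc] using Subgroup.Normal.conj_mem ‹K.Normal› _ ha y⁻¹⟩) (hfree y hy)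
  by_contra hne
  have hne1 : Nat.card K ≠ 1 := fun h1 => hne (Subgroup.card_eq_one.mp h1)
  have h3 : 3 ∣ Nat.card K := by
    have hmem : Nat.card K ∈ (Nat.divisors 144).filter (fun d => d % 11 = 1) :=
      Finset.mem_filter.mpr ⟨Nat.mem_divisors.mpr ⟨hd144, by norm_num⟩, hK1⟩
    rw [show (Nat.divisors 144).filter (fun d => d % 11 = 1) = {1, 12, 144} by decide +kernel] at hmem
    simp only [Finset.mem_insert, Finset.mem_singleton] at hmem
    rcases hmem with e | e | e
    · exact absurd e hne1
    · rw [e]; norm_num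
    · rw [e]; norm_num
  haveI : Fact (Nat.Prime 3) := ⟨Nat.prime_three⟩
  obtain ⟨Q⟩ : Nonempty (Sylow 3 K) := inferInstance
  set QG := (Q : Subgroup K).map K.subtype with hQG
  have hQcard : Nat.card QG = Nat.card (Q : Subgroup K) :=
    Nat.card_congr (equivMapOfInjective _ _ K.subtype_injective).symm.toEquiv
  have hQ3 : Nat.card QG = 3 ∨ Nat.card QG = 9 := by
    obtain ⟨n, hn⟩ := Q.isPGroup'.exists_card_eq
    have h1 : 3 ∣ Nat.card (Q : Subgroup K) := Q.dvd_card_of_dvd_card h3
    have h2 : Nat.card (Q : Subgroup K) ∣ 144 := ((Q : Subgroup K).card_subgroup_dvd_card).trans hd144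
    rw [hQcard]
    rw [hn] at h1 h2 ⊢
    have hn2 : n ≤ 2 := by
      by_contra hgt
      have := (pow_dvd_pow 3 (show 3 ≤ n by omega)).trans h2
      norm_num at this
    interval_cases n <;> simp_all
  have hsup := Sylow.normalizer_sup_eq_top Q
  have h11N : 11 ∣ Nat.card (normalizer (QG : Set G)) := by
    have hmap : (normalizer (QG : Set G)).map (QuotientGroup.mk' K) = ⊤ := by
      rw [← Subgroup.comap_injective (QuotientGroup.mk'_surjective K) |>.eq_iff, comap_top,
        comap_map_eq, QuotientGroup.ker_mk', hQG]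
      exact hsup
    have hd : K.index ∣ Nat.card (normalizer (QG : Set G)) := by
      have h2 := card_map_dvd (normalizer (QG : Set G)) (QuotientGroup.mk' K)
      rw [hmap, Subgroup.card_top] at h2
      exact h2
    refine dvd_trans ?_ hd
    have h2 : 11 ∣ Nat.card K * K.index := by rw [hmul]; norm_num
    exact ((Nat.Prime.dvd_mul (by norm_num)).mp h2).resolve_left h
  obtain ⟨⟨z, hzN⟩, hz⟩ := exists_prime_orderOf_dvd_card' 11 h11N
  rw [Subgroup.orderOf_mk] at hz
  have hQ1 := free_card QG hz (fun a => mem_normalizer_iff.mp hzN a)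
    fun a ha => hfree z hz a (map_subtype_le _ ha)
  omega

include hG h11 h5 in
/-- The group is simple. -/
theorem isSimpleGroup : IsSimpleGroup G := by
  haveI : Fact (Nat.Prime 11) := ⟨by norm_num⟩
  haveI : Nontrivial G := Finite.one_lt_card_iff_nontrivial.mp (by rw [hG]; norm_num)
  refine ⟨fun N hN => ?_⟩
  haveI := hN
  by_cases h : 11 ∣ Nat.card N
  swap
  · exact Or.inl (eq_bot_of_not_dvd hG h11 h5 h)
  refine Or.inr ?_
  have hmul : Nat.card N * N.index = 7920 := hG ▸ N.card_mul_index
  have hidx : ¬ 11 ∣ N.index := fun hi => by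
    have := Nat.mul_dvd_mul h hi
    rw [hmul] at this
    norm_num at this
  have hall : ∀ g : G, orderOf g = 11 → g ∈ N := fun g hg => mem_of_coprime_index (by
    rw [hg]; exact (Nat.Prime.coprime_iff_not_dvd (by norm_num)).2 hidx)
  have hN11 : Nat.card {g : N // orderOf g = 11} = 1440 := by
    rw [← h11]
    exact Nat.card_congr
      { toFun := fun g => ⟨g.1.1, by rw [Subgroup.orderOf_coe]; exact g.2⟩
        invFun := fun g => ⟨⟨g.1, hall g.1 g.2⟩, by rw [Subgroup.orderOf_mk]; exact g.2⟩
        left_inv := fun g => rfl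
        right_inv := fun g => rfl }
  obtain ⟨P⟩ : Nonempty (Sylow 11 N) := inferInstance
  have hP : Nat.card (P : Subgroup N) = 11 := by
    obtain ⟨n, hn⟩ := P.isPGroup'.exists_card_eq
    have h1 : 11 ∣ Nat.card (P : Subgroup N) := P.dvd_card_of_dvd_card h
    have h2 : Nat.card (P : Subgroup N) ∣ 7920 :=
      ((P : Subgroup N).card_subgroup_dvd_card).trans (hG ▸ N.card_subgroup_dvd_card)
    rw [hn] at h1 h2 ⊢
    have hn2 : n ≤ 1 := by
      by_contra hgt
      have := (pow_dvd_pow 11 (show 2 ≤ n by omega)).trans h2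
      norm_num at this
    interval_cases n <;> simp_all
  have hcount := card_orderOf_eq_prime P hP
  rw [hN11] at hcount
  have hnorm := card_normalizer_sylow_mul P
  have hn144 : Nat.card (Sylow 11 N) = 144 := by omega
  rw [hn144] at hnorm
  have hge : 11 ≤ Nat.card (normalizer ((P : Subgroup N) : Set N)) := by
    exact hP.symm.trans_le (Subgroup.card_le_of_le le_normalizer)
  have hdvd : 11 ∣ Nat.card (normalizer ((P : Subgroup N) : Set N)) := by
    exact (dvd_of_eq hP.symm).trans (Subgroup.card_dvd_of_le le_normalizer)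
  by_contra hne
  have hidx1 : N.index ≠ 1 := fun h1 => hne (Subgroup.index_eq_one.mp h1)
  -- the normalizer has order eleven
  have hN55 : Nat.card (normalizer ((P : Subgroup N) : Set N)) = 11 := by
    obtain ⟨c, hc⟩ := hdvd
    rw [← hnorm, hc] at hmul
    have hc5 : c * N.index = 5 := by nlinarith [hmul]
    rcases Nat.prime_five.eq_one_or_self_of_dvd c ⟨_, hc5.symm⟩ with rfl | rfl
    · omega
    · omega
  have hle : normalizer ((P : Subgroup N) : Set N) ≤ centralizer ((P : Subgroup N) : Set N) := by
    have heq := Subgroup.eq_of_le_of_card_ge (le_normalizer (H := (P : Subgroup N)))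
      (by rw [hN55, hP])
    haveI : IsCyclic (P : Subgroup N) := isCyclic_of_prime_card hP
    letI : CommGroup (P : Subgroup N) := IsCyclic.commGroup
    rw [← heq]
    intro a ha
    rw [mem_centralizer_iff]
    intro b hb
    exact congrArg Subtype.val (mul_comm (⟨b, hb⟩ : (P : Subgroup N)) ⟨a, ha⟩)
  have hcompl := MonoidHom.ker_transferSylow_isComplement' P hle
  set K' := (MonoidHom.transferSylow P hle).ker with hK'
  have hK144 : Nat.card K' = 144 := by
    have := hcompl.card_mul
    rw [hP] at this
    omega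
  have hmem : ∀ g : N, orderOf g ∣ 144 → g ∈ K' := by
    intro g hg
    rw [hK', MonoidHom.mem_ker, ← orderOf_eq_one_iff]
    refine Nat.eq_one_of_dvd_coprimes (show Nat.Coprime 11 144 by norm_num) ?_
      ((orderOf_map_dvd _ g).trans hg)
    exact (_root_.orderOf_dvd_natCard _).trans (dvd_of_eq hP)
  haveI hKn : (K'.map N.subtype).Normal := by
    refine ⟨fun a ha g => ?_⟩
    obtain ⟨b, hb, rfl⟩ := mem_map.mp ha
    refine mem_map.mpr ⟨⟨g * b * g⁻¹, hN.conj_mem _ b.2 g⟩, hmem _ ?_, rfl⟩
    rw [Subgroup.orderOf_mk, show g * (b : G) * g⁻¹ = MulAut.conj g b from rfl, MulEquiv.orderOf_eq,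
      Subgroup.orderOf_coe, ← hK144]
    simpa using orderOf_dvd_natCard (⟨b, hb⟩ : K')
  have hc : Nat.card (K'.map N.subtype) = 144 := by
    rw [← hK144]
    exact Nat.card_congr (equivMapOfInjective _ _ N.subtype_injective).symm.toEquiv
  have := eq_bot_of_not_dvd hG h11 h5 (K := K'.map N.subtype) (by rw [hc]; norm_num)
  rw [this, Subgroup.card_bot] at hc
  omega

end Cfsg.Agent.Lib.M11Order
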